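import Groth.Agent.S2135
import Groth.Agent.HenselLib.HullProps
import Groth.Agent.HenselLib.LocalHens
import Groth.Agent.FlatMorWeight.GeomUnibranch
import Groth.Agent.FlatMorWeight.UnibranchOpen
import Groth.Agent.Misc15.StalkLoc
import Mathlib.RingTheory.Ideal.KrullsHeightTheorem

/-!
# Geometrically unibranch and connectedness of punctured strict henselizations
-/

set_option autoImplicit false
set_option backward.isDefEq.respectTransparency false
set_option linter.style.haveILetI false

universe u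

open CategoryTheory AlgebraicGeometry IsLocalRing

namespace Groth.Agent.EGA43.UnibranchPunctured

open Groth.Agent Groth.Agent.HenselLib

section Ring

variable (A S : Type u) [CommRing A] [IsLocalRing A] [CommRing S] [IsLocalRing S] [Algebra A S]
  [IsLocalHom (algebraMap A S)] [Hensel.IsStrictHenselization A S]

theorem closedPoint_not_minimal (hdim : maximalIdeal A ∉ minimalPrimes A) :
    maximalIdeal S ∉ minimalPrimes S := by
  intro h
  obtain ⟨e⟩ := exists_equiv_localSH S (R := A)
  haveI : Module.Flat A (LocalSH A) := inferInstance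
  haveI : Module.Flat A S := Module.Flat.of_linearEquiv e.symm.toLinearEquiv
  have := CAlgSmall.UnibranchHull.comap_mem_minimalPrimes (R := A) h
  rw [(IsLocalRing.maximalIdeal_comap (f := algebraMap A S))] at this
  exact hdim this

theorem connected_of_isGeomUnibranch (hA : CAlg2.IsGeomUnibranch A)
    (hdim : maximalIdeal A ∉ minimalPrimes A) :
    ConnectedSpace ↥({closedPoint S}ᶜ : Set (PrimeSpectrum S)) := by
  obtain ⟨P, hP, huniq⟩ := (S2135.result (Ash := S)).mp hA
  have hPp : P.IsPrime := hP.1.1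
  let η : PrimeSpectrum S := ⟨P, hPp⟩
  have hη : η ≠ closedPoint S := fun h =>
    closedPoint_not_minimal A S hdim (by
      have hPe : P = maximalIdeal S := congrArg PrimeSpectrum.asIdeal h
      exact hPe ▸ hP)
  have hle : ∀ q : PrimeSpectrum S, η ⤳ q := fun q => by
    obtain ⟨P', hP', hP'q⟩ := Ideal.exists_minimalPrimes_le (I := ⊥) (J := q.asIdeal) bot_le
    exact (PrimeSpectrum.le_iff_specializes η q).1 ((huniq P' hP' ▸ hP'q : P ≤ q.asIdeal))
  rw [← isConnected_iff_connectedSpace]
  refine isConnected_singleton.subset_closure (s := {η}) (Set.singleton_subset_iff.2 hη) ?_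
  exact fun q _ => specializes_iff_mem_closure.1 (hle q)

theorem eq_of_le_of_mem_minimalPrimes
    (hloc : ∀ (p : Ideal A) [p.IsPrime], p ≠ maximalIdeal A →
      ∃ (L : Type u) (_ : CommRing L) (_ : IsLocalRing L) (_ : Algebra A L),
        IsLocalization.AtPrime L p ∧ CAlg2.IsGeomUnibranch L)
    (q P₁ P₂ : Ideal S) [q.IsPrime] (hq : q ≠ maximalIdeal S) (h₁ : P₁ ∈ minimalPrimes S)
    (h₂ : P₂ ∈ minimalPrimes S) (l₁ : P₁ ≤ q) (l₂ : P₂ ≤ q) : P₁ = P₂ := by
  obtain ⟨e⟩ := exists_equiv_localSH S (R := A)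
  haveI : Module.Flat A (LocalSH A) := inferInstance
  haveI : Module.Flat A S := Module.Flat.of_linearEquiv e.symm.toLinearEquiv
  haveI := h₁.1.1
  haveI := h₂.1.1
  have hp : q.comap (algebraMap A S) ≠ maximalIdeal A := by
    intro h
    have hm := (IsLocalRing.maximalIdeal_comap (f := algebraMap A S))
    have h' : (q.comap e.toRingHom).comap (algebraMap A (LocalSH A)) =
        ((maximalIdeal S).comap e.toRingHom).comap (algebraMap A (LocalSH A)) := by
      rw [Ideal.comap_comap, Ideal.comap_comap]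
      have : e.toRingHom.comp (algebraMap A (LocalSH A)) = algebraMap A S := RingHom.ext e.commutes
      rw [this, h, hm]
    exact hq (Ideal.comap_injective_of_surjective e.toRingHom e.surjective
      (hull_eq_of_le_of_comap_eq (Ideal.comap_mono (IsLocalRing.le_maximalIdeal Ideal.IsPrime.ne_top')) h'))
  obtain ⟨L, _, _, _, hL, hU⟩ := hloc _ hp
  have key : ∀ (T : Pt A (SepRes A)) (y : T.Ring), (e (ι T y) ∈ P₁ ↔ e (ι T y) ∈ P₂) := by
    intro T y
    let r : T.Ring →+* S := e.toRingHom.comp (ι T).toRingHom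
    have hr : r.comp (algebraMap A T.Ring) = algebraMap A S :=
      RingHom.ext fun a => (congrArg e ((ι T).commutes a)).trans (e.commutes a)
    have heq : P₁.comap r = P₂.comap r :=
      FlatMorWeight.eq_of_le_of_etale_of_minimal (q.comap (algebraMap A S)) hU (q.comap r)
        (by rw [Ideal.comap_comap, hr]) (P₁.comap r) (P₂.comap r) (Ideal.comap_mono l₁)
        (Ideal.comap_mono l₂)
        (by rw [Ideal.comap_comap, hr]; exact CAlgSmall.UnibranchHull.comap_mem_minimalPrimes h₁)
        (by rw [Ideal.comap_comap, hr]; exact CAlgSmall.UnibranchHull.comap_mem_minimalPrimes h₂)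
    exact SetLike.ext_iff.1 heq y
  ext x
  obtain ⟨h, rfl⟩ := e.surjective x
  obtain ⟨T, y, rfl⟩ := exists_rep h
  exact key T y

theorem isGeomUnibranch_of_connected [IsNoetherianRing A] (hdim : maximalIdeal A ∉ minimalPrimes A)
    (hloc : ∀ (p : Ideal A) [p.IsPrime], p ≠ maximalIdeal A →
      ∃ (L : Type u) (_ : CommRing L) (_ : IsLocalRing L) (_ : Algebra A L),
        IsLocalization.AtPrime L p ∧ CAlg2.IsGeomUnibranch L)
    (hconn : ConnectedSpace ↥({closedPoint S}ᶜ : Set (PrimeSpectrum S))) :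
    CAlg2.IsGeomUnibranch A := by
  obtain ⟨e⟩ := exists_equiv_localSH S (R := A)
  haveI : IsNoetherianRing (LocalSH A) := isNoetherianRing_localSH
  haveI : IsNoetherianRing S := isNoetherianRing_of_ringEquiv _ e.toRingEquiv
  have hfin : (minimalPrimes S).Finite := minimalPrimes.finite_of_isNoetherianRing S
  obtain ⟨P, hP, -⟩ := Ideal.exists_minimalPrimes_le (I := ⊥) (J := maximalIdeal S) bot_le
  refine (S2135.result (Ash := S)).mpr ⟨P, hP, fun Q hQ => by_contra fun hne => ?_⟩
  let W := ({closedPoint S}ᶜ : Set (PrimeSpectrum S))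
  let Z : Set ↥W := {q | P ≤ q.1.asIdeal}
  have hcl : ∀ J : Ideal S, IsClosed {q : ↥W | J ≤ q.1.asIdeal} := fun J =>
    (PrimeSpectrum.isClosed_zeroLocus (J : Set S)).preimage continuous_subtype_val
  have hZc : IsClosed Z := hcl P
  have hcompl : Zᶜ = ⋃ J ∈ minimalPrimes S \ {P}, {q : ↥W | J ≤ q.1.asIdeal} := by
    ext q
    simp only [Set.mem_compl_iff, Set.mem_iUnion, exists_prop, Z, Set.mem_setOf_eq]
    constructor
    · intro h
      obtain ⟨J, hJ, hJq⟩ := Ideal.exists_minimalPrimes_le (I := ⊥) (J := q.1.asIdeal) bot_le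
      exact ⟨J, ⟨hJ, fun hJP => h (by rwa [← Set.mem_singleton_iff.1 hJP])⟩, hJq⟩
    · rintro ⟨J, ⟨hJ, hJP⟩, hJq⟩ h
      exact hJP (eq_of_le_of_mem_minimalPrimes A S hloc q.1.asIdeal J P
        (fun he => q.2 (PrimeSpectrum.ext he)) hJ hP hJq h)
  have hZo : IsOpen Z := by
    rw [← isClosed_compl_iff, hcompl]
    exact (hfin.subset Set.sdiff_subset).isClosed_biUnion fun J _ => hcl J
  have hne' : ∀ J : Ideal S, ∀ hJ : J ∈ minimalPrimes S, (⟨J, hJ.1.1⟩ : PrimeSpectrum S) ∈ W :=
    fun J hJ he => closedPoint_not_minimal A S hdim (by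
      have hJe : J = maximalIdeal S := congrArg PrimeSpectrum.asIdeal he
      exact hJe ▸ hJ)
  rcases (isClopen_iff.1 (⟨hZc, hZo⟩ : IsClopen Z)) with h0 | h1
  · exact h0.le (show (⟨_, hne' P hP⟩ : ↥W) ∈ Z from le_refl P)
  · have hPQ : P ≤ Q := h1.ge (Set.mem_univ (⟨_, hne' Q hQ⟩ : ↥W))
    exact hne (le_antisymm (hQ.2 hP.1 hPQ) hPQ)

end Ring

theorem maximalIdeal_not_minimal {X : Scheme.{u}} (x : X) (hx : closure ({x} : Set X) ∉ irreducibleComponents X) :
    maximalIdeal (X.presheaf.stalk x) ∉ minimalPrimes (X.presheaf.stalk x) := by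
  intro h
  obtain ⟨η, hη, W, hW, hgen⟩ := FlatMorWeight.exists_isMaximalPt_specializes x
  have : η ∈ Set.range (X.fromSpecStalk x) := by rw [Scheme.range_fromSpecStalk]; exact hη
  obtain ⟨q, rfl⟩ := this
  have hq : q = closedPoint (X.presheaf.stalk x) := PrimeSpectrum.ext (le_antisymm
    (IsLocalRing.le_maximalIdeal q.2.ne_top) (h.2 ⟨q.2, bot_le⟩ (IsLocalRing.le_maximalIdeal q.2.ne_top)))
  rw [hq, Scheme.fromSpecStalk_closedPoint] at hgen
  exact hx (hgen.symm ▸ hW)

theorem eq_max_of_min {A : Type u} [CommRing A] [IsLocalRing A] (hmin : maximalIdeal A ∈ minimalPrimes A)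
    (Q : Ideal (LocalSH A)) [Q.IsPrime] : Q = maximalIdeal (LocalSH A) := by
  have hm := (IsLocalRing.maximalIdeal_comap (f := algebraMap A (LocalSH A)))
  refine hull_eq_of_le_of_comap_eq (IsLocalRing.le_maximalIdeal Ideal.IsPrime.ne_top') ?_
  rw [hm]
  exact le_antisymm (IsLocalRing.le_maximalIdeal Ideal.IsPrime.ne_top')
    (hmin.2 ⟨inferInstance, bot_le⟩ (IsLocalRing.le_maximalIdeal Ideal.IsPrime.ne_top'))

theorem minimal_of_component {X : Scheme.{u}} (x : X) (hx : closure ({x} : Set X) ∈ irreducibleComponents X) :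
    maximalIdeal (X.presheaf.stalk x) ∈ minimalPrimes (X.presheaf.stalk x) := by
  have hmax : FlatMorWeight.IsMaximalPt x := FlatMorWeight.isMaximalPt_of_isGenericPoint hx rfl
  refine ⟨⟨inferInstance, bot_le⟩, fun Q ⟨hQ, _⟩ _ => ?_⟩
  let pt : Spec (X.presheaf.stalk x) := ⟨Q, hQ⟩
  have hz : X.fromSpecStalk x pt ⤳ x := by
    have : X.fromSpecStalk x pt ∈ Set.range (X.fromSpecStalk x) := ⟨pt, rfl⟩
    rwa [Scheme.range_fromSpecStalk] at this
  exact (congrArg PrimeSpectrum.asIdeal ((X.fromSpecStalk x).isEmbedding.injective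
    ((hmax _ hz).trans Scheme.fromSpecStalk_closedPoint.symm) : pt = closedPoint _)).ge

theorem exists_loc {X : Scheme.{u}} (x : X) (p : Spec (X.presheaf.stalk x)) :
    ∃ (_ : Algebra (X.presheaf.stalk x) (X.presheaf.stalk (X.fromSpecStalk x p))),
      IsLocalization.AtPrime (X.presheaf.stalk (X.fromSpecStalk x p)) p.asIdeal := by
  have hz : X.fromSpecStalk x p ⤳ x := by
    have : X.fromSpecStalk x p ∈ Set.range (X.fromSpecStalk x) := ⟨p, rfl⟩
    rwa [Scheme.range_fromSpecStalk] at this
  generalize hzdef : X.fromSpecStalk x p = z at hz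
  let σ := X.presheaf.stalkSpecializes hz
  letI := σ.hom.toAlgebra
  refine ⟨inferInstance, ?_⟩
  have hp : p = Spec.map σ (closedPoint (X.presheaf.stalk z)) := by
    refine (X.fromSpecStalk x).isEmbedding.injective ?_
    rw [← Scheme.Hom.comp_apply, Scheme.SpecMap_stalkSpecializes_fromSpecStalk,
      Scheme.fromSpecStalk_closedPoint, hzdef]
  have hloc := Misc15.isLocalization_stalkSpecializes hz
  have hsub : (IsUnit.submonoid (X.presheaf.stalk z)).comap σ.hom = p.asIdeal.primeCompl := by
    ext a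
    show IsUnit (σ.hom a) ↔ a ∉ p.asIdeal
    rw [hp]
    exact (not_not (a := IsUnit (σ.hom a))).symm
  rw [hsub] at hloc
  exact hloc

theorem isGeomUnibranch_stalks {X : Scheme.{u}} [IsLocallyNoetherian X]
    (h : ∀ (x : X), closure ({x} : Set X) ∉ irreducibleComponents X →
      ∀ (Ash : Type u) [CommRing Ash] [IsLocalRing Ash] [Algebra (X.presheaf.stalk x) Ash]
        [IsLocalHom (algebraMap (X.presheaf.stalk x) Ash)]
        [Hensel.IsStrictHenselization (X.presheaf.stalk x) Ash],
        ConnectedSpace ↥({closedPoint Ash}ᶜ : Set (PrimeSpectrum Ash))) (x₀ : X) :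
    CAlg2.IsGeomUnibranch (X.presheaf.stalk x₀) := by
  suffices ∀ q : Spec (X.presheaf.stalk x₀), CAlg2.IsGeomUnibranch (X.presheaf.stalk (X.fromSpecStalk x₀ q)) by
    exact Scheme.fromSpecStalk_closedPoint (x := x₀) ▸ this (closedPoint _)
  intro q
  induction hn : q.asIdeal.height using WellFoundedLT.induction generalizing q with
  | _ n ih => ?_
  subst hn
  generalize hx : X.fromSpecStalk x₀ q = x
  let A := X.presheaf.stalk x
  by_cases hmin : maximalIdeal A ∈ minimalPrimes A
  · haveI hS := isStrictHenselization_localSH (R := A)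
    refine (S2135.result (Ash := LocalSH A)).mpr ?_
    refine ⟨maximalIdeal (LocalSH A), ⟨⟨inferInstance, bot_le⟩, fun Q hQ hle => ?_⟩, fun Q hQ => ?_⟩
    all_goals
      haveI := hQ.1
    · exact (eq_max_of_min hmin Q).ge
    · haveI := hQ.1.1
      exact eq_max_of_min hmin Q
  · haveI hS := isStrictHenselization_localSH (R := A)
    refine isGeomUnibranch_of_connected A (LocalSH A) hmin (fun p hp hpm => ?_) (h x ?_ (LocalSH A))
    · let pt : Spec (X.presheaf.stalk x) := ⟨p, hp⟩
      obtain ⟨alg, hl⟩ := exists_loc x pt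
      refine ⟨_, inferInstance, inferInstance, alg, hl, ?_⟩
      have hz : X.fromSpecStalk x pt ⤳ x := by
        have : X.fromSpecStalk x pt ∈ Set.range (X.fromSpecStalk x) := ⟨pt, rfl⟩
        rwa [Scheme.range_fromSpecStalk] at this
      have hxs : x ⤳ x₀ := by
        have : x ∈ Set.range (X.fromSpecStalk x₀) := ⟨q, hx⟩
        rwa [Scheme.range_fromSpecStalk] at this
      have : X.fromSpecStalk x pt ∈ Set.range (X.fromSpecStalk x₀) := by
        rw [Scheme.range_fromSpecStalk]; exact hz.trans hxs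
      obtain ⟨q', hq'⟩ := this
      rw [← hq']
      refine ih q'.asIdeal.height (Ideal.height_strict_mono_of_isPrime (lt_of_le_of_ne ?_ ?_)) q' rfl
      · exact (PrimeSpectrum.le_iff_specializes q' q).2
          ((X.fromSpecStalk x₀).isEmbedding.isInducing.specializes_iff.1 (by rw [hq', hx]; exact hz))
      · intro he
        refine hpm (congrArg PrimeSpectrum.asIdeal ((X.fromSpecStalk x).isEmbedding.injective ?_ :
          pt = closedPoint (X.presheaf.stalk x)))
        rw [Scheme.fromSpecStalk_closedPoint, ← hq', PrimeSpectrum.ext he, hx]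
    · intro hc
      exact hmin (minimal_of_component x hc)

end Groth.Agent.EGA43.UnibranchPunctured
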